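import Groth.Agent.S7119
import Groth.Agent.S9128

/-!
Reduced principal quotients of normal catenary local domains through a given radical ideal.
-/

set_option autoImplicit false
universe u

namespace Groth.L05.ReducedQuot

open IsLocalRing Groth.Agent.S7119

variable {R : Type u} [CommRing R] [IsDomain R] [IsNoetherianRing R]

/-- In a catenary local domain the quotient by a height one prime has codimension one. -/
theorem ringKrullDim_quotient_of_height_one [IsLocalRing R] (hc : CAlg.IsCatenary R) {p : Ideal R} [p.IsPrime]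
    (hp : p.height = 1) : ringKrullDim R = ringKrullDim (R ⧸ p) + 1 := by
  let b : PrimeSpectrum R := ⟨⊥, Ideal.isPrime_bot⟩
  let P : PrimeSpectrum R := ⟨p, inferInstance⟩
  have hne : p ≠ ⊥ := fun e => by
    rw [e, Ideal.height_bot] at hp
    exact zero_ne_one hp
  have hlt : b < P := lt_of_le_of_ne bot_le fun e => hne (congrArg PrimeSpectrum.asIdeal e).symm
  have hcov : b ⋖ P := ⟨hlt, fun c h1 h2 => by
    haveI := c.2
    have h3 := Ideal.height_strict_mono_of_isPrime (I := c.asIdeal) (J := p) h2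
    rw [hp, ENat.lt_one_iff_eq_zero, Ideal.height_eq_zero_iff_eq_bot] at h3
    exact h1.ne (PrimeSpectrum.ext h3.symm)⟩
  have h := (((Groth.Agent.S9128.result R).1 hc b P hlt).2 hcov)
  have e : ringKrullDim (R ⧸ (⊥ : Ideal R)) = ringKrullDim R := ringKrullDim_eq_of_ringEquiv (RingEquiv.quotientBot R)
  exact e.symm.trans h

variable [IsIntegrallyClosed R]

set_option maxHeartbeats 800000 in
theorem step [IsLocalRing R] {n : ℕ} (hn : 2 ≤ n) (hdim : ringKrullDim R = n) (G : Ideal R) (f : R) (hf : f ≠ 0) (hfm : f ∈ maximalIdeal R)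
    (hsop : maximalIdeal R ≤ (Ideal.span {f} ⊔ G).radical) {q : Ideal R} [q.IsPrime]
    (hq : q ∈ (Ideal.span {f}).minimalPrimes) (hqbad : f ∈ sPow q 2)
    (K : ∀ f' : R, f' ≠ 0 → f' ∈ maximalIdeal R → (Ideal.span {f}).minimalPrimes ⊆ (Ideal.span {f'}).minimalPrimes →
      (Ideal.span {f}).minimalPrimes ≠ (Ideal.span {f'}).minimalPrimes → Ideal.span {f'} ⊔ G = Ideal.span {f} ⊔ G → False) :
    False := by
  classical
  obtain ⟨a, ha⟩ := Ideal.exists_pow_le_of_le_radical_of_fg hsop (IsNoetherian.noetherian _)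
  obtain ⟨b, hb⟩ : ∃ b, f ∉ maximalIdeal R ^ b := by
    by_contra hc
    push Not at hc
    exact hf (by simpa [Ideal.iInf_pow_eq_bot_of_isLocalRing _ (maximalIdeal.isMaximal R).ne_top] using
      (Submodule.mem_iInf _).2 hc)
  let N := max (a + 1) b
  have hZ := Ideal.finite_minimalPrimes_of_isNoetherianRing R (Ideal.span {f})
  haveI := hZ.fintype
  let Z := (Ideal.span {f}).minimalPrimes
  haveI hpr : ∀ p : Z, (p : Ideal R).IsPrime := fun p => p.2.1.1
  haveI : ∀ p : Z, IsDiscreteValuationRing (Localization.AtPrime (p : Ideal R)) := fun p => isDVR_of_minimal hf p.2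
  have hk : ∀ p : Z, ∃ k, algebraMap R (Localization.AtPrime (p : Ideal R)) f ∉ maximalIdeal _ ^ k := fun p => by
    by_contra hc
    push Not at hc
    have := (Submodule.mem_iInf _).2 hc
    rw [Ideal.iInf_pow_eq_bot_of_isLocalRing _ (maximalIdeal.isMaximal _).ne_top, Submodule.mem_bot] at this
    exact hf (IsLocalization.injective (Localization.AtPrime (p : Ideal R))
      ((p : Ideal R).primeCompl_le_nonZeroDivisors) (this.trans (map_zero _).symm))
  choose k hk using hk
  have hnle : ¬ (maximalIdeal R ^ N * ∏ p ∈ Finset.univ.filter (fun p : Z => (p : Ideal R) ≠ q), (p : Ideal R) ^ k p) ≤ q := by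
    intro h
    rcases (inferInstance : q.IsPrime).mul_le.1 h with h | h
    · have hqm : q = maximalIdeal R := le_antisymm (IsLocalRing.le_maximalIdeal (inferInstance : q.IsPrime).ne_top)
        ((inferInstance : q.IsPrime).le_of_pow_le h)
      have h2 := IsLocalRing.maximalIdeal_height_eq_ringKrullDim (R := R)
      rw [← hqm, height_eq_one hf hq, hdim] at h2
      have h3 : ((1 : ℕ) : ℕ∞) = (n : ℕ∞) := WithBot.coe_injective h2
      have := ENat.coe_inj.mp h3
      omega
    · obtain ⟨p, hp, hle⟩ := (inferInstance : q.IsPrime).prod_le.1 h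
      have hle' := (inferInstance : q.IsPrime).le_of_pow_le hle
      exact (Finset.mem_filter.1 hp).2 (le_antisymm hle' (hq.2 p.2.1 hle'))
  obtain ⟨h2, hh2, hh2q⟩ := SetLike.not_le_iff_exists.1 hnle
  haveI := isDVR_of_minimal hf hq
  have hqsq : ¬ q ≤ sPow q 2 := not_le_sPow_two q
  obtain ⟨h1, hh1, hh1q⟩ := SetLike.not_le_iff_exists.1 hqsq
  let h := h1 * h2
  have hhN : h ∈ maximalIdeal R ^ N := Ideal.mul_mem_left _ _ (Ideal.mul_le_left hh2)
  have hhp : ∀ p : Z, (p : Ideal R) ≠ q → h ∈ (p : Ideal R) ^ k p := fun p hp => Ideal.mul_mem_left _ _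
    (Finset.inf_le (f := fun p : Z => (p : Ideal R) ^ k p) (Finset.mem_filter.2 ⟨Finset.mem_univ _, hp⟩)
      (Ideal.prod_le_inf (Ideal.mul_le_right hh2)))
  have hhq : h ∉ sPow q 2 := fun hc => hh1q (mem_sPow_of_mul q hh2q hc)
  let f' := f + h
  have hf'b : f' ∉ maximalIdeal R ^ b := fun hc => hb (by
    have := sub_mem hc (Ideal.pow_le_pow_right (le_max_right (a + 1) b) hhN)
    rwa [add_sub_cancel_right] at this)
  have hf'0 : f' ≠ 0 := fun e => hf'b (e ▸ zero_mem _)
  have hhm : h ∈ maximalIdeal R :=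
    Ideal.pow_le_self (show N ≠ 0 by have := le_max_left (a + 1) b; omega) hhN
  have hmem : ∀ p : Z, f' ∈ (p : Ideal R) := fun p => by
    refine add_mem (p.2.1.2 (Ideal.mem_span_singleton_self f)) ?_
    by_cases hpq : (p : Ideal R) = q
    · rw [hpq]; exact Ideal.mul_mem_right _ _ hh1
    · refine Ideal.pow_le_self ?_ (hhp p hpq)
      intro e
      exact hk p (by rw [e, pow_zero, Ideal.one_eq_top]; trivial)
  have hss : Z ⊆ (Ideal.span {f'}).minimalPrimes := fun p hp => by
    haveI := hp.1.1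
    exact mem_minimalPrimes hf'0 (height_eq_one hf hp).le (hmem ⟨p, hp⟩)
  have hf'q : f' ∉ sPow q 2 := fun hc => hhq (by
    have := sub_mem hc hqbad
    rwa [add_sub_cancel_left] at this)
  refine K f' hf'0 (add_mem hfm hhm) hss ?_ ?_
  · intro heq
    have hdvd : f' ∣ f := dvd_of_forall_local fun p _ hp => by
      have hpm : p ∈ Z := by
        show p ∈ (Ideal.span {f}).minimalPrimes
        rw [heq]; exact mem_minimalPrimes_of_ass hf'0 hp
      haveI := isDVR_of_minimal hf hpm
      have hf'max := mem_maximalIdeal_of_mem p (hmem ⟨p, hpm⟩)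
      have hfmax := mem_maximalIdeal_of_mem p (hpm.1.2 (Ideal.mem_span_singleton_self f))
      by_cases hpq : p = q
      · subst hpq
        obtain ⟨π, hπ⟩ := IsDiscreteValuationRing.exists_irreducible (Localization.AtPrime p)
        have hmax := hπ.maximalIdeal_eq
        rw [hmax, Ideal.mem_span_singleton] at hf'max hfmax
        obtain ⟨y, hy⟩ := hf'max
        have hyu : IsUnit y := by
          by_contra hyu
          refine hf'q ?_
          show algebraMap R (Localization.AtPrime p) f' ∈ maximalIdeal (Localization.AtPrime p) ^ 2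
          rw [hy, pow_two]
          exact Ideal.mul_mem_mul (hmax ▸ Ideal.mem_span_singleton_self π) hyu
        rw [hy]
        exact hyu.mul_right_dvd.2 hfmax
      · have hhk : algebraMap R (Localization.AtPrime p) h ∈ maximalIdeal _ ^ k ⟨p, hpm⟩ := by
          rw [← map_eq_max, ← Ideal.map_pow]; exact Ideal.mem_map_of_mem _ (hhp ⟨p, hpm⟩ hpq)
        have hkp := hk ⟨p, hpm⟩
        rcases ValuationRing.dvd_total (algebraMap R (Localization.AtPrime p) f) (algebraMap R _ h) with ⟨y, hy⟩ | ⟨y, hy⟩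
        · have hym : y ∈ maximalIdeal (Localization.AtPrime p) := by
            intro hu
            exact hkp ((Ideal.mul_unit_mem_iff_mem _ hu).1 (hy ▸ hhk))
          have hu : IsUnit (1 + y) := by
            have := isUnit_one_sub_self_of_mem_nonunits (-y) (neg_mem hym : -y ∈ maximalIdeal _)
            rwa [sub_neg_eq_add] at this
          rw [map_add, hy, ← mul_one_add]
          exact hu.mul_right_dvd.2 dvd_rfl
        · exact absurd (hy ▸ Ideal.mul_mem_right _ _ hhk) hkp
    obtain ⟨u, hu⟩ := hdvd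
    have humax : u ∈ maximalIdeal R := by
      intro hunit
      refine hf'q ((Ideal.mul_unit_mem_iff_mem _ hunit).1 ?_)
      rw [← hu]; exact hqbad
    have hunit : IsUnit (1 - u) := isUnit_one_sub_self_of_mem_nonunits u humax
    have : f' * (1 - u) = h := by rw [mul_one_sub, ← hu]; exact add_sub_cancel_left f h
    exact hf'b ((Ideal.mul_unit_mem_iff_mem _ hunit).1 (this ▸ Ideal.pow_le_pow_right (le_max_right _ _) hhN))
  · have hin : h ∈ maximalIdeal R * (Ideal.span {f} ⊔ G) := by
      refine Ideal.mul_mono_right ha ?_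
      rw [← pow_succ']
      exact Ideal.pow_le_pow_right (le_max_left _ _) hhN
    rw [Ideal.mul_sup, Submodule.mem_sup] at hin
    obtain ⟨x, hx, y, hy, hxy⟩ := hin
    obtain ⟨α, hα, rfl⟩ := Ideal.mem_mul_span_singleton.1 hx
    have hyG : y ∈ G := Ideal.mul_le_right hy
    have hu : IsUnit (1 + α) := by
      have := isUnit_one_sub_self_of_mem_nonunits (-α) (neg_mem hα : -α ∈ maximalIdeal _)
      rwa [sub_neg_eq_add] at this
    have e : f' = f * (1 + α) + y := by show f + h = _; rw [← hxy]; ring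
    refine le_antisymm (sup_le ((Ideal.span_singleton_le_iff_mem _).2 ?_) le_sup_right)
      (sup_le ((Ideal.span_singleton_le_iff_mem _).2 ?_) le_sup_right)
    · rw [e]
      exact add_mem (Ideal.mem_sup_left (Ideal.mul_mem_right _ _ (Ideal.mem_span_singleton_self f)))
        (Ideal.mem_sup_right hyG)
    · refine (Ideal.mul_unit_mem_iff_mem _ hu).1 ?_
      rw [show f * (1 + α) = f' - y by rw [e]; ring]
      exact sub_mem (Ideal.mem_sup_left (Ideal.mem_span_singleton_self f')) (Ideal.mem_sup_right hyG)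

set_option maxHeartbeats 800000 in
theorem exists_good [IsLocalRing R] (hc : CAlg.IsCatenary R) {d : ℕ} (hd : 1 ≤ d) (hdim : ringKrullDim R = (d + 1 : ℕ))
    (g : Fin d → R) (hg : ∀ i, g i ∈ maximalIdeal R) (B : ℕ) : ∀ (k : ℕ) (f : R), f ≠ 0 → f ∈ maximalIdeal R →
    B - (Ideal.span {f}).minimalPrimes.ncard ≤ k →
    maximalIdeal R ≤ (Ideal.span {f} ⊔ Ideal.span (Set.range g)).radical →
    Module.length R (R ⧸ (Ideal.span {f} ⊔ Ideal.span (Set.range g))) = B →
    ∃ f' : R, f' ≠ 0 ∧ (Ideal.span {f}).minimalPrimes ⊆ (Ideal.span {f'}).minimalPrimes ∧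
      IsReduced (R ⧸ Ideal.span {f'}) := by
  let G := Ideal.span (Set.range g)
  have hbound : ∀ f : R, f ≠ 0 → f ∈ maximalIdeal R → maximalIdeal R ≤ (Ideal.span {f} ⊔ G).radical →
      Module.length R (R ⧸ (Ideal.span {f} ⊔ G)) = B → (Ideal.span {f}).minimalPrimes.ncard ≤ B := by
    intro f hf hfm hsop hlen
    let J := Ideal.span {f}
    have hJtop : J ≠ ⊤ := ne_top_of_le_ne_top (maximalIdeal.isMaximal R).ne_top ((Ideal.span_singleton_le_iff_mem _).2 hfm)
    haveI : Nontrivial (R ⧸ J) := Ideal.Quotient.nontrivial_iff.2 hJtop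
    haveI : IsLocalRing (R ⧸ J) := IsLocalRing.of_surjective' (Ideal.Quotient.mk J) Ideal.Quotient.mk_surjective
    have hp1 : ∀ p ∈ J.minimalPrimes, ringKrullDim (R ⧸ p) = (d : ℕ) := by
      intro p hp
      haveI := hp.1.1
      have := ringKrullDim_quotient_of_height_one hc (height_eq_one hf hp)
      rw [hdim] at this
      rcases hq : ringKrullDim (R ⧸ p) with _ | a
      · rw [hq] at this; exact absurd this (WithBot.coe_ne_bot)
      · rw [hq] at this
        have h2 : ((d + 1 : ℕ) : ℕ∞) = a + 1 := WithBot.coe_injective this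
        rcases a with _ | a
        · exact absurd h2 (ENat.natCast_ne_top _)
        · have : d + 1 = a + 1 := ENat.coe_inj.mp h2
          rw [show a = d by omega]; rfl
    have hle1 : ringKrullDim (R ⧸ J) ≤ (d : ℕ) := by
      have := ringKrullDim_quotient_succ_le_of_nonZeroDivisor (mem_nonZeroDivisors_of_ne_zero hf)
      rw [hdim] at this
      rcases hq : ringKrullDim (R ⧸ J) with _ | a
      · exact bot_le
      · rw [hq] at this
        have h2 : a + 1 ≤ (d + 1 : ℕ) := WithBot.coe_le_coe.1 this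
        refine WithBot.coe_le_coe.2 ?_
        rcases a with _ | a
        · exact absurd (top_le_iff.1 h2) (ENat.natCast_ne_top _)
        · have : a + 1 ≤ d + 1 := ENat.coe_le_coe.1 h2
          exact ENat.coe_le_coe.2 (by omega)
    have hquot : ∀ P : Ideal (R ⧸ J), ringKrullDim (R ⧸ P.comap (Ideal.Quotient.mk J)) = ringKrullDim ((R ⧸ J) ⧸ P) := fun P =>
      ringKrullDim_eq_of_ringEquiv (RingEquiv.ofBijective (Ideal.quotientMap P (Ideal.Quotient.mk J) le_rfl)
        ⟨Ideal.quotientMap_injective, Ideal.quotientMap_surjective Ideal.Quotient.mk_surjective⟩)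
    have hd1 : ringKrullDim (R ⧸ J) = (d : ℕ) := by
      refine le_antisymm hle1 ?_
      obtain ⟨p, hp⟩ := J.nonempty_minimalPrimes hJtop
      exact (hp1 p hp).ge.trans (ringKrullDim_le_of_surjective (Ideal.Quotient.factor hp.1.2)
        (Ideal.Quotient.factor_surjective hp.1.2))
    haveI : IsLocalHom (Ideal.Quotient.mk J) := IsLocalHom.of_surjective (Ideal.Quotient.mk J) Ideal.Quotient.mk_surjective
    have hmapG : Ideal.map (Ideal.Quotient.mk J) G = Ideal.span (Set.range fun i => Ideal.Quotient.mk J (g i)) := by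
      rw [Ideal.map_span, ← Set.range_comp]; rfl
    have hbase := Groth.Agent.S7117.result (R ⧸ J) d hd1 (fun i => Ideal.Quotient.mk J (g i))
      (fun i => (mem_maximalIdeal _).2 fun hu => (mem_maximalIdeal _).1 (hg i) ((isUnit_map_iff (Ideal.Quotient.mk J) (g i)).1
        (by exact hu) : IsUnit (g i)))
      (by
        intro z hz
        obtain ⟨x, rfl⟩ := Ideal.Quotient.mk_surjective z
        obtain ⟨n, hn⟩ := hsop ((mem_maximalIdeal x).2 fun hu => (mem_maximalIdeal _).1 hz (hu.map _))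
        refine ⟨n, ?_⟩
        obtain ⟨a, ha, b, hb, hab⟩ := Submodule.mem_sup.1 hn
        rw [← map_pow, ← hab, map_add, Ideal.Quotient.eq_zero_iff_mem.2 ha, zero_add, ← hmapG]
        exact Ideal.mem_map_of_mem _ hb)
    have hlen' : Module.length (R ⧸ J) ((R ⧸ J) ⧸ Ideal.span (Set.range fun i => Ideal.Quotient.mk J (g i))) = B := by
      rw [← hlen, ← Module.length_eq_of_surjective (S := R) (Ideal.Quotient.mk_surjective (I := J))]
      exact LinearEquiv.length_eq ((Ideal.quotientEquivAlgOfEq R hmapG.symm).trans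
        (DoubleQuot.quotQuotEquivQuotSupₐ R J G)).toLinearEquiv
    rw [hlen'] at hbase
    have hfin : {P : Ideal (R ⧸ J) | P ∈ minimalPrimes (R ⧸ J) ∧ ringKrullDim ((R ⧸ J) ⧸ P) = (d : ℕ)}.Finite :=
      (minimalPrimes.finite_of_isNoetherianRing _).subset fun _ h => h.1
    refine Nat.cast_le.1 (le_trans (Nat.cast_le.2 ?_) hbase)
    refine (Set.ncard_le_ncard ?_ (hfin.image (Ideal.comap (Ideal.Quotient.mk J)))).trans (Set.ncard_image_le hfin)
    intro p hp
    have hp' := hp
    rw [Ideal.minimalPrimes_eq_comap] at hp'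
    obtain ⟨P, hP, rfl⟩ := hp'
    exact ⟨P, ⟨hP, (hquot P).symm.trans (hp1 _ hp)⟩, rfl⟩
  intro k
  induction k with
  | zero =>
    intro f hf hfm hk hsop hlen
    refine ⟨f, hf, subset_rfl, isReduced_quotient hf fun q _ hq hqbad => ?_⟩
    exact step (show 2 ≤ d + 1 by omega) hdim G f hf hfm hsop hq hqbad fun f' hf' hfm' hss hne hsame => by
      have h1 := hbound f' hf' hfm' (hsame ▸ hsop) (hsame ▸ hlen)
      have h2 := Set.ncard_lt_ncard (hss.ssubset_of_ne hne) (Ideal.finite_minimalPrimes_of_isNoetherianRing R _)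
      omega
  | succ k ih =>
    intro f hf hfm hk hsop hlen
    by_cases hall : ∀ (p : Ideal R) [p.IsPrime], p ∈ (Ideal.span {f}).minimalPrimes → f ∉ sPow p 2
    · exact ⟨f, hf, subset_rfl, isReduced_quotient hf hall⟩
    push Not at hall
    obtain ⟨q, hq', hq, hqbad⟩ := hall
    by_contra hno
    exact step (show 2 ≤ d + 1 by omega) hdim G f hf hfm hsop hq hqbad fun f' hf' hfm' hss hne hsame => by
      have h2 := Set.ncard_lt_ncard (hss.ssubset_of_ne hne) (Ideal.finite_minimalPrimes_of_isNoetherianRing R _)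
      obtain ⟨f'', h0, hs', hr⟩ := ih f' hf' hfm' (by omega) (hsame ▸ hsop) (hsame ▸ hlen)
      exact hno ⟨f'', h0, hss.trans hs', hr⟩

/-- A radical ideal of a normal catenary local domain contains an element with reduced quotient. -/
theorem exists_mem_reduced [IsLocalRing R] (hc : CAlg.IsCatenary R) (J : Ideal R) (hJ : J.IsRadical) (hJ0 : J ≠ ⊥) :
    ∃ f ∈ J, f ≠ 0 ∧ IsReduced (R ⧸ Ideal.span {f}) := by
  classical
  by_cases hJtop : J = ⊤
  · haveI : Subsingleton (R ⧸ Ideal.span {(1 : R)}) :=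
      Ideal.Quotient.subsingleton_iff.mpr Ideal.span_singleton_one
    exact ⟨1, hJtop ▸ Submodule.mem_top, one_ne_zero, inferInstance⟩
  obtain ⟨f0, hf0J, hf00⟩ := Submodule.exists_mem_ne_zero_of_ne_bot hJ0
  have hf0m : f0 ∈ maximalIdeal R := le_maximalIdeal hJtop hf0J
  obtain ⟨n, hn⟩ : ∃ n : ℕ, ringKrullDim R = (n : WithBot ℕ∞) := by
    have h := Ideal.height_ne_top (I := maximalIdeal R) (maximalIdeal.isMaximal R).ne_top
    obtain ⟨n, hn⟩ := WithTop.ne_top_iff_exists.mp h
    exact ⟨n, by rw [← IsLocalRing.maximalIdeal_height_eq_ringKrullDim, ← hn]; rfl⟩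
  obtain ⟨p₁, hp₁⟩ := (Ideal.span {f0}).nonempty_minimalPrimes
    (ne_top_of_le_ne_top (maximalIdeal.isMaximal R).ne_top ((Ideal.span_singleton_le_iff_mem _).2 hf0m))
  haveI := hp₁.1.1
  by_cases hn2 : n ≤ 1
  · haveI : (maximalIdeal R).IsMaximal := maximalIdeal.isMaximal R
    have hmh : (maximalIdeal R).height ≤ 1 := by
      have h2 := IsLocalRing.maximalIdeal_height_eq_ringKrullDim (R := R)
      rw [hn] at h2
      rw [show (maximalIdeal R).height = (n : ℕ∞) from WithBot.coe_injective h2]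
      exact_mod_cast hn2
    haveI := isDVR_of_minimal hf00 (mem_minimalPrimes hf00 hmh hf0m)
    obtain ⟨x, hx, hx2⟩ := SetLike.not_le_iff_exists.1 (not_le_sPow_two (maximalIdeal R))
    have hx0 : x ≠ 0 := fun e => hx2 (e ▸ zero_mem _)
    refine ⟨x, ?_, hx0, isReduced_quotient hx0 fun p _ hp => ?_⟩
    · have hJm : maximalIdeal R ≤ J := by
        rw [← hJ.radical, Ideal.radical_eq_sInf]
        refine le_sInf fun P hP => ?_
        obtain ⟨hle, hPp⟩ := hP
        have := mem_minimalPrimes hf00 hmh hf0m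
        exact this.2 ⟨hPp, (Ideal.span_singleton_le_iff_mem _).2 (hle hf0J)⟩ (le_maximalIdeal hPp.ne_top)
      exact hJm hx
    · haveI := hp.1.1
      have hpm : p = maximalIdeal R := by
        refine le_antisymm (le_maximalIdeal hp.1.1.ne_top) ?_
        exact (mem_minimalPrimes hx0 hmh hx).2 hp.1 (le_maximalIdeal hp.1.1.ne_top)
      subst hpm
      exact hx2
  obtain ⟨d, rfl⟩ : ∃ d, n = d + 1 := ⟨n - 1, by omega⟩
  let Jf := Ideal.span {f0}
  haveI : Nontrivial (R ⧸ Jf) := Ideal.Quotient.nontrivial_iff.2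
    (ne_top_of_le_ne_top (maximalIdeal.isMaximal R).ne_top ((Ideal.span_singleton_le_iff_mem _).2 hf0m))
  haveI : IsLocalRing (R ⧸ Jf) := IsLocalRing.of_surjective' (Ideal.Quotient.mk Jf) Ideal.Quotient.mk_surjective
  haveI : IsLocalHom (Ideal.Quotient.mk Jf) := IsLocalHom.of_surjective _ Ideal.Quotient.mk_surjective
  obtain ⟨s, hs, hcard⟩ := Ideal.exists_finset_card_eq_height_of_isNoetherianRing (maximalIdeal (R ⧸ Jf))
  have hsd : s.card ≤ d := by
    have h1 : ringKrullDim (R ⧸ Jf) + 1 ≤ ((d + 1 : ℕ) : WithBot ℕ∞) :=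
      (ringKrullDim_quotient_succ_le_of_nonZeroDivisor (mem_nonZeroDivisors_of_ne_zero hf00)).trans hn.le
    rw [← IsLocalRing.maximalIdeal_height_eq_ringKrullDim, ← hcard] at h1
    have h2 : ((s.card + 1 : ℕ) : WithBot ℕ∞) ≤ ((d + 1 : ℕ) : WithBot ℕ∞) := h1
    exact Nat.le_of_succ_le_succ (by exact_mod_cast h2)
  let e := s.equivFin
  choose lift hlift using fun z : R ⧸ Jf => Ideal.Quotient.mk_surjective z
  let g : Fin d → R := fun i => if h : i.1 < s.card then lift (e.symm ⟨i.1, h⟩).1 else 0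
  have hg : ∀ i, g i ∈ maximalIdeal R := fun i => by
    by_cases h : i.1 < s.card
    · simp only [g, dif_pos h]
      refine (mem_maximalIdeal _).2 fun hu => (mem_maximalIdeal _).1 ?_ (hlift _ ▸ hu.map (Ideal.Quotient.mk Jf))
      exact hs.1.2 (Ideal.subset_span (e.symm ⟨i.1, h⟩).2)
    · simp only [g, dif_neg h]; exact zero_mem _
  have hmap : Ideal.span (s : Set (R ⧸ Jf)) ≤ (Jf ⊔ Ideal.span (Set.range g)).map (Ideal.Quotient.mk Jf) := by
    refine Ideal.span_le.2 fun z hz => ?_
    have h : (e ⟨z, hz⟩).1 < d := (e ⟨z, hz⟩).2.trans_le hsd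
    have hgi : g ⟨_, h⟩ = lift z := by simp only [g, dif_pos (e ⟨z, hz⟩).2, Fin.eta, Equiv.symm_apply_apply]
    rw [← hlift z, ← hgi]
    exact Ideal.mem_map_of_mem _ (Ideal.mem_sup_right (Ideal.subset_span ⟨_, rfl⟩))
  have hsop : maximalIdeal R ≤ (Jf ⊔ Ideal.span (Set.range g)).radical := by
    rw [Ideal.radical_eq_sInf]
    refine le_sInf ?_
    rintro P ⟨hle, hP⟩
    haveI := hP
    have hker : RingHom.ker (Ideal.Quotient.mk Jf) ≤ P := by rw [Ideal.mk_ker]; exact le_sup_left.trans hle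
    haveI : (P.map (Ideal.Quotient.mk Jf)).IsPrime :=
      Ideal.map_isPrime_of_surjective Ideal.Quotient.mk_surjective hker
    have h1 : maximalIdeal (R ⧸ Jf) ≤ P.map (Ideal.Quotient.mk Jf) :=
      hs.2 ⟨inferInstance, hmap.trans (Ideal.map_mono hle)⟩ (le_maximalIdeal Ideal.IsPrime.ne_top')
    intro x hx
    have h2 : Ideal.Quotient.mk Jf x ∈ P.map (Ideal.Quotient.mk Jf) := h1 ((mem_maximalIdeal _).2 fun hu =>
      (mem_maximalIdeal _).1 hx ((isUnit_map_iff (Ideal.Quotient.mk Jf) x).1 hu))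
    rw [← Ideal.mem_comap, Ideal.comap_map_of_surjective' _ Ideal.Quotient.mk_surjective, Ideal.mk_ker] at h2
    exact (sup_le le_rfl (le_sup_left.trans hle)) h2
  have hlt : Module.length R (R ⧸ (Jf ⊔ Ideal.span (Set.range g))) ≠ ⊤ := by
    have h0 : ringKrullDim (R ⧸ (Jf ⊔ Ideal.span (Set.range g))) ≤ 0 :=
      (Groth.L06.SupportDim.le_zero_iff_forall_isMaximal _).2 fun p hp hle => by
        have : maximalIdeal R ≤ p := hsop.trans ((Ideal.radical_mono hle).trans hp.radical.le)
        exact (maximalIdeal.isMaximal R).eq_of_le hp.ne_top this ▸ maximalIdeal.isMaximal R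
    have := Groth.L06.HilbertSamuel.length_ne_top _ R h0 1
    rwa [pow_one, smul_eq_mul, Ideal.mul_top] at this
  obtain ⟨B, hB⟩ := ENat.ne_top_iff_exists.1 hlt
  obtain ⟨f, hf, hsub, hred⟩ := exists_good hc (show 1 ≤ d by omega) hn g hg B _ f0 hf00 hf0m le_rfl hsop hB.symm
  refine ⟨f, ?_, hf, hred⟩
  rw [← hJ.radical]
  refine Ideal.radical_mono ((Ideal.span_singleton_le_iff_mem _).2 hf0J) ?_
  rw [← Ideal.sInf_minimalPrimes, Ideal.mem_sInf]
  exact fun p hp => (hsub hp).1.2 (Ideal.mem_span_singleton_self f)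

end Groth.L05.ReducedQuot
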